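import Groth.Agent.AlgSt.K738.RepDiag
import Groth.Agent.AlgSt.K735.Fp
import Groth.Agent.FibCat.K161.Fiberwise
import Groth.Agent.AlgSp.K597.LocP

/-!
# Representability of a functor from corepresenting pairs

* `IsCor F a` : `a : F x ⟶ y` is terminal among the arrows `F z ⟶ y`.
* `exists_terminal` : then the 2-fibre product of `F` with the chart of `y` has a terminal object.
* `repByAlgSpWith_of_cor`, `isRepresentable1_of_cor`.
-/

set_option autoImplicit false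
set_option backward.isDefEq.respectTransparency false
set_option backward.isDefEq.respectTransparency.types false

universe v₃ w₃ v₂ w₂ w' v' w v u

open CategoryTheory CategoryTheory.Limits AlgebraicGeometry Opposite AlgSp K735.Fib K735.Fp

namespace K161.Higgs

section Cor

variable {C : Type u} [Category.{v} C] {𝒳 : BasedCategory.{v₂, w₂} C} {𝒴 : BasedCategory.{v₃, w₃} C}

/-- `a : F x ⟶ y` is terminal among the arrows `F z ⟶ y`. -/
def IsCor (F : 𝒳 ⥤ᵇ 𝒴) {x : 𝒳.obj} {y : 𝒴.obj} (a : F.obj x ⟶ y) : Prop :=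
  ∀ (z : 𝒳.obj) (b : F.obj z ⟶ y), ∃! c : z ⟶ x, F.map c ≫ a = b

/-- The base of `a`. -/
def bs (F : 𝒳 ⥤ᵇ 𝒴) {x : 𝒳.obj} {U : C} (y : FibCat.overCat U ⥤ᵇ 𝒴) (a : F.obj x ⟶ y.obj (idObj U)) :
    𝒳.p.obj x ⟶ U := eqToHom (F.w_obj x).symm ≫ 𝒴.p.map a ≫ eqToHom (y.w_obj (idObj U))

theorem exists_terminal (h𝒴 : FibCat.IsFibGrpd 𝒴.p) {U : C}
    (y : FibCat.overCat U ⥤ᵇ 𝒴) (F : 𝒳 ⥤ᵇ 𝒴) {x : 𝒳.obj} (a : F.obj x ⟶ y.obj (idObj U)) (ha : IsCor F a) :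
    ∃ ξ : (FibCat.fp y F).obj, ξ.obj.fst = Over.mk (bs F y a) ∧
      (∀ ρ : (FibCat.fp y F).obj, Nonempty (Unique (ρ ⟶ ξ))) := by
  let A : (FibCat.overCat U).obj := Over.mk (bs F y a)
  obtain ⟨χ, hχ1, hχ2⟩ := exists_hom h𝒴 (y.map (toId A)) a
    (eqToHom ((F.w_obj x).trans (y.w_obj A).symm)) (by
      rw [map_map]
      change _ ≫ _ ≫ bs F y a ≫ _ = _
      simp [bs])
  have hχv : Vert 𝒴.p χ := vert_of_map_eq _ hχ1
  have : IsIso χ := hχv.isIso h𝒴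
  let ξ : (FibCat.fp y F).obj := mkFp y F A x (asIso χ).symm (Vert.iso_inv (φ := asIso χ) hχv)
  refine ⟨ξ, rfl, fun ρ => ?_⟩
  let b : F.obj ρ.obj.snd ⟶ y.obj (idObj U) := ρ.obj.iso.inv ≫ y.map (toId ρ.obj.fst)
  obtain ⟨c, hc, hcu⟩ := ha ρ.obj.snd b
  dsimp only at hc hcu
  -- the base
  have hbase : ∀ c' : ρ.obj.snd ⟶ x, F.map c' ≫ a = b → 𝒳.p.map c' ≫ bs F y a = eqToHom (fp_snd_eq ρ) ≫ ρ.obj.fst.hom := by
    intro c' hc'
    have h1 := congrArg 𝒴.p.map hc'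
    rw [Functor.map_comp, Functor.map_comp, map_map, map_map, (Vert.iso_inv (fp_vert ρ)).map_eq] at h1
    change _ = _ ≫ _ ≫ ρ.obj.fst.hom ≫ _ at h1
    rw [← cancel_epi (eqToHom (F.w_obj ρ.obj.snd)), ← cancel_mono (eqToHom (y.w_obj (idObj U)).symm)]
    simp only [bs, Category.assoc, eqToHom_trans_assoc, eqToHom_trans, eqToHom_refl, Category.comp_id] at h1 ⊢
    exact h1
  have hw : ∀ (c' : ρ.obj.snd ⟶ x) (k : ρ.obj.fst ⟶ A), F.map c' ≫ a = b →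
      k.left = eqToHom (fp_snd_eq ρ).symm ≫ 𝒳.p.map c' →
      y.map k ≫ ξ.obj.iso.hom = ρ.obj.iso.hom ≫ F.map c' := by
    intro c' k hc' hk
    change y.map k ≫ inv χ = _
    rw [IsIso.comp_inv_eq]
    apply hom_ext' h𝒴 (y.map (toId A))
    · rw [Functor.map_comp, Functor.map_comp, map_map, map_map, hχ1, (fp_vert ρ).map_eq]
      change _ ≫ k.left ≫ _ = _
      rw [hk]
      simp
    · rw [Category.assoc, Category.assoc, hχ2, hc', Iso.hom_inv_id_assoc, ← y.map_comp]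
      congr 1
      exact Over.OverMorphism.ext (Over.w k)
  let k : ρ.obj.fst ⟶ A := Over.homMk (eqToHom (fp_snd_eq ρ).symm ≫ 𝒳.p.map c) (by
    change (_ ≫ _) ≫ bs F y a = _
    rw [Category.assoc, hbase c hc]
    simp)
  refine ⟨⟨⟨homFp k c (hw c k hc rfl)⟩, fun m => ?_⟩⟩
  have h2 : F.map m.hom.snd ≫ a = b := by
    have h3 : y.map m.hom.fst ≫ ξ.obj.iso.hom = ρ.obj.iso.hom ≫ F.map m.hom.snd := fp_w m
    change y.map m.hom.fst ≫ inv χ = _ at h3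
    rw [← cancel_epi ρ.obj.iso.hom, ← Category.assoc, ← h3, ← hχ2, Category.assoc, IsIso.inv_hom_id_assoc,
      ← y.map_comp, Iso.hom_inv_id_assoc]
    congr 1
    exact Over.OverMorphism.ext (Over.w m.hom.fst)
  have h4 : m.hom.snd = c := hcu _ h2
  have h5 := fp_map_snd m
  apply fp_hom_ext
  · apply Over.OverMorphism.ext
    change m.hom.fst.left = eqToHom (fp_snd_eq ρ).symm ≫ 𝒳.p.map c
    rw [← h4, h5]
    change _ = _ ≫ _ ≫ m.hom.fst.left ≫ _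
    simp
    exact (Category.comp_id _).symm
  · exact h4

/-- The functor is representable (by schemes). -/
theorem isRepresentable1_of_cor (h𝒳 : FibCat.IsFibGrpd 𝒳.p) (h𝒴 : FibCat.IsFibGrpd 𝒴.p) (F : 𝒳 ⥤ᵇ 𝒴)
    (H : ∀ y : 𝒴.obj, ∃ (x : 𝒳.obj) (a : F.obj x ⟶ y), IsCor F a) : FibCat.IsRepresentable1 F := by
  intro U y
  obtain ⟨x, a, ha⟩ := H (y.obj (idObj U))
  obtain ⟨ξ, -, hξ⟩ := exists_terminal h𝒴 y F a ha
  exact K161.Fiberwise.isRepresentable_of_terminal (isFibGrpd_fp (isFibGrpd_overCat U) h𝒳 h𝒴 y F) ξ hξ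

end Cor

section Sp

variable {S : Scheme.{u}} 

/-- A category fibred in groupoids with a terminal object is that of a scheme. -/
theorem nonempty_secRep {𝒵 : BasedCategory.{v₂, w₂} (Over S)} (h : FibCat.IsFibGrpd 𝒵.p) {U : Over S}
    (q : 𝒵 ⥤ᵇ FibCat.overCat U) (ξ : 𝒵.obj) (t : ∀ ρ : 𝒵.obj, Nonempty (Unique (ρ ⟶ ξ))) :
    Nonempty (K738.SecRep q ((yon S).obj (𝒵.p.obj ξ)) ((yon S).map (K738.str q ξ))) := by
  let d : ∀ ρ : 𝒵.obj, ρ ⟶ ξ := fun ρ => (t ρ).some.default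
  have hd : ∀ {ρ : 𝒵.obj} (m m' : ρ ⟶ ξ), m = m' := fun {ρ} m m' =>
    ((t ρ).some.eq_default m).trans ((t ρ).some.eq_default m').symm
  exact ⟨{
    sec := fun z => ⟨𝒵.p.map (d z)⟩
    map := fun {z z'} m => by
      apply ULift.ext
      change 𝒵.p.map m ≫ 𝒵.p.map (d z') = 𝒵.p.map (d z)
      rw [← Functor.map_comp]
      exact congrArg _ (hd _ _)
    full := fun {z z'} g hg => by
      have hg' : g ≫ 𝒵.p.map (d z') = 𝒵.p.map (d z) := congrArg ULift.down hg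
      obtain ⟨m, hm, -⟩ := exists_hom h (d z') (d z) g hg'
      exact ⟨m, hm⟩
    faithful := fun {z z'} m m' hm => hom_ext' h (d z') hm (hd _ _)
    surj := fun {T} s => by
      obtain ⟨z, φ, e, hφ⟩ := exists_lift h s.down
      refine ⟨z, e.symm, ?_⟩
      apply ULift.ext
      change eqToHom e.symm ≫ 𝒵.p.map (d z) = s.down
      rw [hd (d z) φ, hφ]
      simp
    proj := fun z => by
      apply ULift.ext
      exact K738.str_comp q (d z) }⟩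

variable {𝒳 : BasedCategory.{v₂, w₂} (Over S)} {𝒴 : BasedCategory.{v₃, w₃} (Over S)}

/-- The functor is representable by algebraic spaces with the property `Q`. -/
theorem repByAlgSpWith_of_cor (h𝒳 : FibCat.IsFibGrpd 𝒳.p) (h𝒴 : FibCat.IsFibGrpd 𝒴.p) (F : 𝒳 ⥤ᵇ 𝒴)
    {Q : MorphismProperty Scheme.{u}} [Q.IsStableUnderBaseChange]
    (hpre : ∀ ⦃A B C : Scheme.{u}⦄ (e : A ⟶ B) (f : B ⟶ C), Etale e → Q f → Q (e ≫ f))
    (H : ∀ y : 𝒴.obj, ∃ (x : 𝒳.obj) (a : F.obj x ⟶ y), IsCor F a ∧ Q (𝒴.p.map a).left) :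
    AlgSt.RepByAlgSpWith (AlgSp.LocP Q) F := by
  apply K738.repByAlgSpWith_of_secRep
  intro U y
  obtain ⟨x, a, ha, hQ⟩ := H (y.obj (idObj U))
  obtain ⟨ξ, hξ1, hξ⟩ := exists_terminal h𝒴 y F a ha
  obtain ⟨R⟩ := nonempty_secRep (isFibGrpd_fp (isFibGrpd_overCat U) h𝒳 h𝒴 y F) (FibCat.fpFst y F) ξ hξ
  refine ⟨(ofScheme S).obj _, _, ?_, ⟨R⟩⟩
  refine K597.locP_of_repWith hpre ((AlgSp.repWith_yon_map_iff Q _).2 ?_)
  have h1 : K738.str (FibCat.fpFst y F) ξ = ξ.obj.fst.hom := Category.id_comp _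
  rw [h1]
  have h2 : ∀ A : Over U, A = Over.mk (bs F y a) → Q A.hom.left := by
    rintro A rfl
    change Q ((eqToHom (F.w_obj x).symm : _ ⟶ _).left ≫ (𝒴.p.map a).left ≫
      (eqToHom (y.w_obj (idObj U)) : _ ⟶ _).left)
    refine MorphismProperty.RespectsIso.precomp Q _ _ (MorphismProperty.RespectsIso.postcomp Q _ _ hQ)
  exact h2 _ hξ1

end Sp

end K161.Higgs
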