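import Groth.Agent.ModSt.K927.EnKit
import Groth.Agent.ModSt.K927.Fib
import Groth.Agent.ModSt.K599.Rep
import Groth.Agent.HiggsSt.K161.Crit
import Groth.Agent.CurvSt.K899.OpenCrit

/-!
# The universal twisted endomorphism of a module

* `HomRepG f E G` : the scheme of homomorphisms `E ⟶ G`, for all test schemes.
* `exists_pair` : for a module `A` with twisting datum, the terminal pair over `A`.
* `isFibGrpd_fam` : the category of pairs is fibred in groupoids; full subcategories.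
* `isCor_forgetSub` : the terminal pair for `HiggsSt.forgetSub`.
-/

set_option autoImplicit false
set_option backward.isDefEq.respectTransparency false
set_option backward.isDefEq.respectTransparency.types false
universe v u

open CategoryTheory CategoryTheory.Limits AlgebraicGeometry Opposite ModSt K599.LMod

noncomputable section

namespace K161.Higgs

open K927.ModSt K927.En K599.Rep

/-- The scheme of homomorphisms, for all test schemes. -/
structure HomRepG {X U : Scheme.{u}} (f : X ⟶ U) (E G : X.Modules) where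
  Z : Scheme.{u}
  z : Z ⟶ U
  pt : Pt f E G z
  univ : ∀ {T : Scheme.{u}} {u : T ⟶ U} (s : Pt f E G u), ∃! t : T ⟶ Z, t ≫ z = u ∧ pt.Rel s t

variable {X S : Scheme.{u}} {f : X ⟶ S} {F : X.Modules}

/-- The module of the universal homomorphism. -/
def uobj (A : Pre f F) {Z : Scheme.{u}} {z : Z ⟶ A.base.left}
    (s : Pt A.q A.E (CohB1.tensorMod A.E A.FT) z) : Obj f where
  base := Over.mk (z ≫ A.base.hom)
  XT := s.y.Y
  p := s.γ.top ≫ A.p
  q := s.q
  isPullback := s.sq.paste_horiz A.isPullback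
  E := (Scheme.Modules.pullback s.γ.top).obj A.E

/-- Its arrow. -/
def uhom (A : Pre f F) {Z : Scheme.{u}} {z : Z ⟶ A.base.left}
    (s : Pt A.q A.E (CohB1.tensorMod A.E A.FT) z) : uobj A s ⟶ A.toObj where
  base := Over.homMk z rfl
  top := s.γ.top
  w_p := rfl
  w_q := s.sq.w
  c := (Scheme.Modules.pullbackPushforwardAdjunction _).unit.app A.E
  cart := isCart_unit _ _

/-- The point of a pair. -/
def ptOf (A : Pre f F) (B : HiggsSt.Obj f F) (b : B.toObj ⟶ A.toObj) :
    Pt A.q A.E (CohB1.tensorMod A.E A.FT) b.base.left where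
  y := tO (pre B)
  γ := tau (A := pre B) (B := A) b
  q := B.q
  sq := Obj.Hom.isPullback_top b
  cart := cart_tau (A := pre B) (B := A) b
  χ := φL B ≫ (ofObj f).map b
  top := Category.id_comp _

/-- **The terminal pair** over a module with twisting datum. -/
theorem exists_pair (A : Pre f F) (R : HomRepG A.q A.E (CohB1.tensorMod A.E A.FT)) :
    ∃ (x : HiggsSt.Obj f F) (a : x.toObj ⟶ A.toObj),
      (∀ (B : HiggsSt.Obj f F) (b : B.toObj ⟶ A.toObj), ∃! c : B ⟶ x, c.hom ≫ a = b) ∧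
      ∀ Q : MorphismProperty Scheme.{u}, Q R.z → Q a.base.left := by
  let x₀ : Obj f := uobj A R.pt
  let a : x₀ ⟶ A.toObj := uhom A R.pt
  let P₀ : Pre f F := ofPb F x₀
  let ta : tO P₀ ⟶ tO A := tau (A := P₀) (B := A) a
  let γ : R.pt.y ⟶ tO A := R.pt.γ
  have hγ : Cart γ := R.pt.cart
  obtain ⟨β₀, ⟨hβ1, hβ2⟩, -⟩ := hγ.existsUnique_lift ta (𝟙 _) (Category.id_comp _)
  have ha : Cart ((ofObj f).map a) := cart_ofObj a
  obtain ⟨φ', ⟨h1, h2⟩, -⟩ := ha.existsUnique_lift (β₀ ≫ R.pt.χ) (𝟙 _) (by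
    have e : (β₀ ≫ R.pt.χ).top = β₀.top ≫ R.pt.χ.top := rfl
    rw [e, hβ1, R.pt.top]
    rfl)
  obtain ⟨φ, rfl⟩ := exists_ofMap (M := P₀.E) (N := CohB1.tensorMod P₀.E P₀.FT) φ' h1
  let x : HiggsSt.Obj f F := P₀.mkφ φ
  refine ⟨x, a, ?_, fun Q hQ => hQ⟩
  intro B b
  have hφ : φL x ≫ (ofObj f).map a = β₀ ≫ R.pt.χ := h2
  let s := ptOf A B b
  obtain ⟨t, ⟨ht1, ht2⟩, ht3⟩ := R.univ s
  -- a lift determines a point
  have key : ∀ c : B ⟶ x, c.hom ≫ a = b → c.hom.base.left = t := by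
    intro c hc
    refine ht3 _ ⟨?_, tauH c.hom ≫ β₀, ?_, ?_, ?_⟩
    · rw [← hc]
      rfl
    · change (tauH c.hom ≫ β₀) ≫ γ = tau (A := pre B) (B := A) b
      rw [Category.assoc, hβ2, ← hc]
      exact (tau_comp (A := pre B) (B := P₀) (C := A) c.hom a).symm
    · have e : c.hom.top ≫ β₀.top = c.hom.top := (congrArg (c.hom.top ≫ ·) hβ1).trans (Category.comp_id _)
      exact (congrArg (· ≫ R.pt.q) e).trans c.hom.w_q
    · have e1 : φL B ≫ (ofObj f).map c.hom = tauH c.hom ≫ φL x := (compat_iff c.hom).1 c.compat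
      have e2 : (ofObj f).map c.hom ≫ (ofObj f).map a = (ofObj f).map b := by
        rw [← (ofObj f).map_comp, hc]
      have e3 : tauH c.hom ≫ φL x ≫ (ofObj f).map a = φL B ≫ (ofObj f).map b := by
        rw [← Category.assoc, ← e1, Category.assoc, e2]
      exact (Category.assoc (tauH c.hom) β₀ R.pt.χ).trans ((congrArg (tauH c.hom ≫ ·) hφ.symm).trans e3)
  -- the lift
  obtain ⟨β, hβγ, hβq, hβχ⟩ := ht2
  let t' : B.base ⟶ x₀.base := Over.homMk t (by
    change t ≫ R.z ≫ A.base.hom = B.base.hom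
    rw [← Category.assoc, ht1]
    exact Over.w b.base)
  obtain ⟨c₀, ⟨hc1, hc2⟩, hc3⟩ := existsUnique_lift a b t' (by
    apply Over.OverMorphism.ext
    exact ht1)
  have htop : c₀.top = β.top := by
    refine R.pt.sq.hom_ext ?_ ?_
    · have h3 : (c₀ ≫ a).top = b.top := congrArg Obj.Hom.top hc2
      have h4 : β.top ≫ γ.top = b.top := congrArg LObj.Hom.top hβγ
      exact h3.trans h4.symm
    · have h3 : c₀.top ≫ R.pt.q = B.q ≫ c₀.base.left := c₀.w_q
      have h5 : B.q ≫ c₀.base.left = B.q ≫ t := by rw [hc1]; rfl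
      exact h3.trans (h5.trans hβq.symm)
  have hβ : tau (A := pre B) (B := P₀) c₀ ≫ β₀ = β := by
    refine hγ.hom_ext' ?_ ?_
    · exact ((congrArg (c₀.top ≫ ·) hβ1).trans (Category.comp_id _)).trans htop
    · rw [Category.assoc, hβ2]
      refine (tau_comp (A := pre B) (B := P₀) (C := A) c₀ a).symm.trans ?_
      have h6 : tau (A := pre B) (B := A) (c₀ ≫ a) = tau (A := pre B) (B := A) b := congrArg _ hc2
      exact h6.trans hβγ.symm
  have hcompat : HiggsSt.Obj.Compat B x c₀ := by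
    rw [compat_iff]
    refine ha.hom_ext' ((Category.id_comp _).trans (Category.comp_id _).symm) ?_
    have e1 : (ofObj f).map c₀ ≫ (ofObj f).map a = (ofObj f).map b := by
      rw [← (ofObj f).map_comp, hc2]
    have e2 : (φL B ≫ (ofObj f).map c₀) ≫ (ofObj f).map a = β ≫ R.pt.χ :=
      (Category.assoc _ _ _).trans ((congrArg (φL B ≫ ·) e1).trans hβχ.symm)
    have e3 : (tauH c₀ ≫ φL x) ≫ (ofObj f).map a = β ≫ R.pt.χ := by
      refine (Category.assoc _ _ _).trans ((congrArg (tauH c₀ ≫ ·) hφ).trans ?_)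
      refine (Category.assoc (tau (A := pre B) (B := P₀) c₀) β₀ R.pt.χ).symm.trans ?_
      exact congrArg (· ≫ R.pt.χ) hβ
    exact e2.trans e3.symm
  refine ⟨⟨c₀, hcompat⟩, hc2, ?_⟩
  intro c hc
  apply HiggsSt.Obj.hom_ext
  refine hc3 c.hom ⟨?_, hc⟩
  apply Over.OverMorphism.ext
  exact key c hc

variable (f F) in
/-- The category of pairs is fibred in groupoids. -/
theorem isFibGrpd_fam : FibCat.IsFibGrpd (HiggsSt.Fam f F).p where
  exists_lift := fun {A} {V} g => by
    obtain ⟨φ, G, hG⟩ := exists_pull (A := ofPb F (bc A.toObj g)) (B := A) (bcHom A.toObj g)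
    refine ⟨_, G, ?_⟩
    have h1 : (HiggsSt.Obj.forget f F).map G = g := congrArg Obj.Hom.base hG
    have h2 := IsHomLift.map (HiggsSt.Obj.forget f F) G
    rwa [h1] at h2
  isStronglyCartesian := fun {B A} φ =>
    { universal_property' := fun {C} g ψ hψ => by
        have hg : g ≫ φ.hom.base = ψ.hom.base :=
          IsHomLift.eq_of_isHomLift (HiggsSt.Obj.forget f F) (g ≫ (HiggsSt.Obj.forget f F).map φ) ψ
        obtain ⟨χ, ⟨h1, h2⟩, h3⟩ := existsUnique_lift φ.hom ψ.hom g hg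
        have hc : HiggsSt.Obj.Compat C B χ := compat_of_comp φ.compat (by rw [h2]; exact ψ.compat)
        refine ⟨⟨χ, hc⟩, ⟨?_, HiggsSt.Obj.hom_ext h2⟩, ?_⟩
        · subst h1
          exact IsHomLift.map (HiggsSt.Obj.forget f F) (⟨χ, hc⟩ : C ⟶ B)
        · rintro χ' ⟨hχ', h4⟩
          apply HiggsSt.Obj.hom_ext
          exact h3 χ'.hom ⟨(IsHomLift.eq_of_isHomLift (HiggsSt.Obj.forget f F) g χ').symm,
            congrArg HiggsSt.Obj.Hom.hom h4⟩ }

section Sub

variable (P : Obj f → Prop) (hP : ∀ {A B : Obj f}, (B ⟶ A) → P A → P B)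

include hP in
theorem isFibGrpd_sub : FibCat.IsFibGrpd (AlgSt.fullSub (HiggsSt.Fam f F) fun A => P A.toObj).p :=
  K899.OpenCrit.isFibGrpd_fullSub (isFibGrpd_fam f F) fun φ h => hP φ.hom h

include hP in
theorem isFibGrpd_sub' : FibCat.IsFibGrpd (AlgSt.fullSub (ModSt.Fam f) P).p :=
  K899.OpenCrit.isFibGrpd_fullSub (K927.ModSt.isFibGrpd_fam f) fun φ h => hP φ h

include hP in
/-- The terminal pair for the forgetful functor. -/
theorem exists_cor (y : (AlgSt.fullSub (ModSt.Fam f) P).obj) (R : HomRepG y.obj.q y.obj.E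
    (CohB1.tensorMod y.obj.E ((Scheme.Modules.pullback y.obj.p).obj F))) :
    ∃ (x : (AlgSt.fullSub (HiggsSt.Fam f F) fun A => P A.toObj).obj) (a : (HiggsSt.forgetSub f F P).obj x ⟶ y),
      IsCor (HiggsSt.forgetSub f F P) a ∧
        ∀ Q : MorphismProperty Scheme.{u}, Q R.z → Q ((AlgSt.fullSub (ModSt.Fam f) P).p.map a).left := by
  obtain ⟨x, a, h1, h2⟩ := exists_pair (ofPb F y.obj) R
  have hx : P x.toObj := hP a y.property
  refine ⟨⟨x, hx⟩, ObjectProperty.homMk a, ?_, h2⟩
  intro z b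
  obtain ⟨c, hc1, hc2⟩ := h1 z.obj b.hom
  refine ⟨ObjectProperty.homMk c, ObjectProperty.hom_ext _ hc1, ?_⟩
  intro c' hc'
  apply ObjectProperty.hom_ext
  exact hc2 c'.hom (congrArg (fun t => t.hom) hc')

include hP in
/-- The forgetful functor is representable by algebraic spaces and locally of finite type. -/
theorem repByAlgSpWith_forgetSub (H : ∀ A : Obj f, P A → ∃ R : HomRepG A.q A.E
      (CohB1.tensorMod A.E ((Scheme.Modules.pullback A.p).obj F)), LocallyOfFiniteType R.z) :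
    AlgSt.RepByAlgSpWith (AlgSp.LocP @LocallyOfFiniteType) (HiggsSt.forgetSub f F P) := by
  refine repByAlgSpWith_of_cor (isFibGrpd_sub P hP) (isFibGrpd_sub' P hP) _ (Q := @LocallyOfFiniteType) ?_ ?_
  · intro A B C e g he hg
    infer_instance
  · intro y
    obtain ⟨R, hR⟩ := H y.obj y.property
    obtain ⟨x, a, h1, h2⟩ := exists_cor P hP y R
    exact ⟨x, a, h1, h2 @LocallyOfFiniteType hR⟩

include hP in
/-- The forgetful functor is schematic. -/
theorem isRepresentable1_forgetSub (H : ∀ A : Obj f, P A → Nonempty (HomRepG A.q A.E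
      (CohB1.tensorMod A.E ((Scheme.Modules.pullback A.p).obj F)))) :
    FibCat.IsRepresentable1 (HiggsSt.forgetSub f F P) := by
  refine isRepresentable1_of_cor (isFibGrpd_sub P hP) (isFibGrpd_sub' P hP) _ ?_
  intro y
  obtain ⟨R⟩ := H y.obj y.property
  obtain ⟨x, a, h1, -⟩ := exists_cor P hP y R
  exact ⟨x, a, h1⟩

end Sub

end K161.Higgs
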