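import Groth.Agent.HiggsSt.K161.Deg
import Groth.Agent.HiggsSt.K161.Pair
import Groth.Agent.ResProp.K368.FPTens
import Groth.Agent.AbVar.K527.LocFree
import Groth.Agent.Flat2F.DescLocal2

/-!
# The forgetful functors to modules, from the schemes of homomorphisms

* `HomEx` : existence of the scheme of homomorphisms for proper finitely presented morphisms.
* `repByAlgSpWith_endo`, `isRepresentable1_higgs`.
-/

set_option autoImplicit false
universe v u

open CategoryTheory CategoryTheory.Limits AlgebraicGeometry Opposite ModSt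

namespace K161.Higgs

/-- Existence of the scheme of homomorphisms. -/
def HomEx : Prop := ∀ {X U : Scheme.{u}} (f : X ⟶ U) (_ : IsProper f) (_ : LocallyOfFinitePresentation f)
  (E G : X.Modules) (_ : CohB1.IsFP E) (_ : CohB1.IsFP G) (_ : FlatMod.IsFlatOver f G),
    ∃ R : HomRepG f E G, IsAffineHom R.z ∧ LocallyOfFinitePresentation R.z

variable {X S : Scheme.{u}} (f : X ⟶ S) (F : X.Modules)

theorem exists_homRepG (HG : HomEx.{u}) [IsProper f] [LocallyOfFinitePresentation f] (hF : FlatMod.IsFinLocFree F)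
    (A : Obj f) (hA : IsCohObj A) : ∃ R : HomRepG A.q A.E
      (CohB1.tensorMod A.E ((Scheme.Modules.pullback A.p).obj F)), IsAffineHom R.z ∧
        LocallyOfFinitePresentation R.z := by
  have h1 : FlatMod.IsFinLocFree ((Scheme.Modules.pullback A.p).obj F) :=
    Groth.Agent.Flat2F.DescLocal.isFinLocFree_pullback' A.p hF
  have h2 : CohB1.IsFP ((Scheme.Modules.pullback A.p).obj F) :=
    Groth.Agent.Desc.FinLocFreeSections.isFP_of_isFinLocFree h1
  exact HG A.q (pr_q A) (lfp_q A) A.E _ hA.2 (Groth.Agent.ResProp.K368.FPTens.isFP_tensorMod hA.2 h2)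
    (K527.LocFree.isFlatOver_tensor A.q h1 hA.1)

theorem repByAlgSpWith_endo (HG : HomEx.{u}) [IsProper f] [LocallyOfFinitePresentation f]
    (hF : FlatMod.IsFinLocFree F) :
    AlgSt.RepByAlgSpWith (AlgSp.LocP @LocallyOfFiniteType) (HiggsSt.Endo.forget f F) := by
  refine repByAlgSpWith_forgetSub (fun A => IsCohObj A) (fun φ h => K927.ModSt.isCohObj_of_hom φ h) ?_
  intro A hA
  obtain ⟨R, -, hR⟩ := exists_homRepG f F HG hF A hA
  exact ⟨R, inferInstance⟩

theorem isCohObj_of_isFibRkObj (r : ℕ) {A : Obj f} (h : IsFibRkObj r A) : IsCohObj A :=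
  ⟨h.1, Groth.Agent.Desc.FinLocFreeSections.isFP_of_isFinLocFree (fun y => (h.2 y).imp fun _ hV => ⟨r, hV⟩)⟩

end K161.Higgs
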