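import Groth.Agent.HiggsSt.K161.Deg
import Groth.Agent.HiggsSt.K161.HomHyp
import Groth.Agent.CurvSt.K901.OpenSub
import Groth.Agent.AlgSt.K743.Locus
import Groth.Agent.AlgSt.K740.Inv

/-!
# The stack of Higgs bundles as an open substack of the stack of pairs

* `hasOpenLocus_higgs`, `isAlgStack_higgs`, `lft_charts_higgs`.
-/

set_option autoImplicit false
universe v u

open CategoryTheory CategoryTheory.Limits AlgebraicGeometry Opposite ModSt

noncomputable section

namespace K161.Higgs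

variable {X S : Scheme.{u}} (f : X ⟶ S) (F : X.Modules) (r : ℕ) (d : ℤ)

/-- The condition on the module. -/
def QH (A : Obj f) : Prop := FlatMod.IsFinLocFreeOfRank r A.E ∧ FibDeg r d A

theorem hasOpenLocus_coh [IsProper f] [LocallyOfFinitePresentation f] [Flat f] :
    K899.OpenCrit.HasOpenLocus (𝒳 := Coh f) (fun A => QH f r d A.obj) :=
  HasOpenLocus_and (K927.ModSt.hasOpenLocus_rk f r) (hasOpenLocus_deg f r d)

theorem hasOpenLocus_endo [IsProper f] [LocallyOfFinitePresentation f] [Flat f] :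
    K901.OpenSub.OpenLocus (HiggsSt.Endo f F) (fun A => QH f r d A.obj.toObj) := by
  intro A
  obtain ⟨U, hU⟩ := hasOpenLocus_coh f r d ⟨A.obj.toObj, A.property⟩
  exact ⟨U, fun B φ => hU ⟨B.obj.toObj, B.property⟩ (ObjectProperty.homMk φ.hom.hom)⟩

/-- Pairs of rank `r` and degree `d`. -/
abbrev EndoRD : AlgSt.Cat S := AlgSt.fullSub (HiggsSt.Endo f F) (fun A => QH f r d A.obj.toObj)

/-- The nested full subcategories. -/
def nest : EndoRD f F r d ⥤ᵇ HiggsSt.Higgs f F r d where
  obj a := ⟨a.obj.obj, ⟨a.obj.property.1, a.property.1⟩, a.property.2⟩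
  map φ := ObjectProperty.homMk φ.hom.hom
  map_id _ := rfl
  map_comp _ _ := rfl
  w := rfl

instance : (nest f F r d).toFunctor.Faithful where
  map_injective {_ _} φ ψ h := by
    apply ObjectProperty.hom_ext
    apply ObjectProperty.hom_ext
    exact congrArg (fun t => t.hom) h

instance : (nest f F r d).toFunctor.Full where
  map_surjective {_ _} ψ := ⟨ObjectProperty.homMk (ObjectProperty.homMk ψ.hom), rfl⟩

/-- The inverse. -/
def unnest : HiggsSt.Higgs f F r d ⥤ᵇ EndoRD f F r d where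
  obj a := ⟨⟨a.obj, isCohObj_of_isFibRkObj f r a.property.1⟩, a.property.1.2, a.property.2⟩
  map φ := ObjectProperty.homMk (ObjectProperty.homMk φ.hom)
  map_id _ := rfl
  map_comp _ _ := rfl
  w := rfl

theorem isEquivOver_nest : FibCat.IsEquivOver (nest f F r d) :=
  ⟨unnest f F r d, ⟨Iso.refl _⟩, ⟨Iso.refl _⟩⟩

theorem isEquivOver_unnest : FibCat.IsEquivOver (unnest f F r d) :=
  ⟨nest f F r d, ⟨Iso.refl _⟩, ⟨Iso.refl _⟩⟩

/-- Algebraicity of the stack of Higgs bundles. -/
theorem isAlgStack_higgs [IsProper f] [LocallyOfFinitePresentation f] [Flat f]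
    (h : AlgSt.IsAlgStack Scheme.etalePrecoverage (HiggsSt.Endo f F)) :
    AlgSt.IsAlgStack Scheme.etalePrecoverage (HiggsSt.Higgs f F r d) :=
  (K740.Inv.isAlgStack_iff Scheme.etalePrecoverage (isEquivOver_nest f F r d)).1
    (K901.OpenSub.isOpenSubstack_etale h (hasOpenLocus_endo f F r d)).2.1

/-- Smooth charts of the stack of Higgs bundles. -/
theorem lft_charts_higgs [IsProper f] [LocallyOfFinitePresentation f] [Flat f]
    (h : ∀ (U : Over S) (x : FibCat.overCat U ⥤ᵇ HiggsSt.Endo f F),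
        AlgSt.RepByAlgSpWith (AlgSp.LocP @Smooth) x → LocallyOfFiniteType U.hom)
    (U : Over S) (x : FibCat.overCat U ⥤ᵇ HiggsSt.Higgs f F r d)
    (hx : AlgSt.RepByAlgSpWith (AlgSp.LocP @Smooth) x) : LocallyOfFiniteType U.hom := by
  have h1 : AlgSt.RepByAlgSpWith (AlgSp.LocP @Smooth) (BasedFunctor.comp x (unnest f F r d)) :=
    K735.Rep.repByAlgSpWith_of_sq _ x (BasedFunctor.comp x (unnest f F r d)) (BasedFunctor.id _) (nest f F r d)
      K735.Fib.isEquivOver_id (isEquivOver_nest f F r d) (Iso.refl _) hx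
  refine h U (BasedFunctor.comp (BasedFunctor.comp x (unnest f F r d)) (AlgSt.subIncl _ _)) ?_
  exact K743.Locus.locP_comp_openImm K597.etLoc_smooth (fun _ _ g hg => inferInstance) _ _ h1
    (K899.OpenCrit.isOpenImm_subIncl (hasOpenLocus_endo f F r d))

theorem higgs_of_hom [IsProper f] [LocallyOfFinitePresentation f] [Flat f] {A B : Obj f} (φ : B ⟶ A)
    (h : IsFibRkObj r A ∧ FibDeg r d A) : IsFibRkObj r B ∧ FibDeg r d B := by
  have hA : IsCohObj A := isCohObj_of_isFibRkObj f r h.1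
  have hB : IsCohObj B := K927.ModSt.isCohObj_of_hom φ hA
  have h1 := (hasOpenLocus_coh f r d).of_hom (x := ⟨A, hA⟩) (y := ⟨B, hB⟩) (ObjectProperty.homMk φ) ⟨h.1.2, h.2⟩
  exact ⟨⟨hB.1, h1.1⟩, h1.2⟩

/-- The forgetful functor from Higgs bundles to vector bundles is schematic. -/
theorem isRepresentable1_higgs (HG : HomEx.{u}) [IsProper f] [LocallyOfFinitePresentation f] [Flat f]
    (hF : FlatMod.IsFinLocFree F) : FibCat.IsRepresentable1 (HiggsSt.Higgs.forget f F r d) := by
  refine isRepresentable1_forgetSub (fun A => IsFibRkObj r A ∧ FibDeg r d A)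
    (fun φ h => higgs_of_hom f r d φ h) ?_
  intro A hA
  obtain ⟨R, -, -⟩ := exists_homRepG f F HG hF A (isCohObj_of_isFibRkObj f r hA.1)
  exact ⟨R⟩

end K161.Higgs
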