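import Groth.Agent.AlgSp.K601.RelLimSp
import Groth.Agent.PicLoc.K729.FGCone
import Groth.Agent.AlgSp.K607.ArtinDefs
import Groth.Agent.AlgSt.K738.RepDiag
import Groth.Agent.AlgSt.K735.Fp

/-!
# Charts of limit preserving stacks are locally of finite type

`lft_of_chart` : `𝒳` over `Spec Λ` fibred in groupoids, objects over affine schemes come from algebras of finite type;
then `U ⟶ Spec Λ` is locally of finite type for every chart `(Sch/U) ⟶ 𝒳` representable by algebraic spaces and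
locally of finite presentation.
-/

set_option autoImplicit false
set_option backward.isDefEq.respectTransparency false
set_option backward.isDefEq.respectTransparency.types false

universe w v u

open CategoryTheory CategoryTheory.Limits AlgebraicGeometry Opposite AlgSp K735.Fib K735.Fp K607.Artin
open Groth.Agent.Etcore.FGLim

namespace K161.Higgs

variable {Λ : Type u} [CommRing Λ] {𝒳 : BasedCategory.{v, w} (Over (Spec (CommRingCat.of Λ)))}

theorem lft_aux (h𝒳 : FibCat.IsFibGrpd 𝒳.p) (hLP : K607.Artin.LP 𝒳)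
    {U : Over (Spec (CommRingCat.of Λ))} (x : FibCat.overCat U ⥤ᵇ 𝒳)
    (hx : AlgSt.RepByAlgSpWith (LocP @LocallyOfFinitePresentation) x) (A : Type u) [CommRing A] [Algebra Λ A]
    (j : sp Λ A ⟶ U) [hj : LocallyOfFiniteType j.left] : LocallyOfFiniteType (sp Λ A).hom := by
  let ξ : 𝒳.obj := x.obj (Over.mk j)
  have hξ : 𝒳.p.obj ξ = sp Λ A := x.w_obj (Over.mk j)
  obtain ⟨C, _, _, hC, φ, y₀, a, ha⟩ := hLP A ξ hξ
  have hy₀ : 𝒳.p.obj y₀ = sp Λ C := IsHomLift.codomain_eq 𝒳.p (spMap φ) a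
  have ha' : 𝒳.p.map a = eqToHom hξ ≫ spMap φ ≫ eqToHom hy₀.symm := by
    have := IsHomLift.fac' 𝒳.p (spMap φ) a
    simpa using this
  let y : FibCat.overCat (sp Λ C) ⥤ᵇ 𝒳 := yonF h𝒳 y₀ hy₀
  let i : y.obj (idObj _) ≅ y₀ := yonFIso h𝒳 y₀ hy₀
  have hi : Vert 𝒳.p i.hom := vert_yonFIso h𝒳 y₀ hy₀
  obtain ⟨F, π, hπ, ⟨R⟩⟩ := K738.repByAlgSpWith_iff_secRep.1 hx (sp Λ C) y
  -- the object of the fibre product over `Spec A`
  let fA : Over (sp Λ C) := Over.mk (spMap φ)
  obtain ⟨χ, hχ1, hχ2⟩ := exists_hom h𝒳 (y.map (toId fA) ≫ i.hom) a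
    (eqToHom (hξ.trans (y.w_obj fA).symm)) (by
      rw [Functor.map_comp, map_map, hi.map_eq, ha']
      change _ ≫ (_ ≫ spMap φ ≫ _) ≫ _ = _
      simp)
  have hχv : Vert 𝒳.p χ := vert_of_map_eq _ hχ1
  have : IsIso χ := hχv.isIso h𝒳
  let z : (FibCat.fp y x).obj := mkFp y x fA (Over.mk j) (asIso χ).symm (Vert.iso_inv (φ := asIso χ) hχv)
  -- descend the section
  have hrel := (K601.RelLimSp.locP_lfp_iff F.property (IsAlgSpace.yon_obj _) π).1 hπ
  rw [K601.LimPres.isRelLimitPreserving_iff] at hrel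
  obtain ⟨hs, -⟩ := hrel (K729.FGCone.fgD Λ A) (K729.FGCone.fgC Λ A) (K729.FGCone.isLimitFgC Λ A)
    (fun i => inferInstanceAs (IsAffine (Spec _))) (inferInstanceAs (IsAffine (Spec _)))
  have hfg : φ.range.FG := by
    rw [← Algebra.map_top]
    exact hC.out.map φ
  let i₀ : (FGSub Λ A)ᵒᵖ := op ⟨φ.range, hfg⟩
  obtain ⟨j₁, ψ, xj, hxj, -⟩ := hs (R.sec z) i₀ ⟨spMap φ.rangeRestrict⟩ (by
    refine (R.proj z).trans ?_
    apply ULift.ext
    apply Over.OverMorphism.ext
    change 𝟙 _ ≫ Spec.map _ = Spec.map _ ≫ Spec.map _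
    rw [← Spec.map_comp, Category.id_comp]
    rfl)
  obtain ⟨z₁, h, hz₁⟩ := R.surj xj
  have hD : LocallyOfFiniteType ((K729.FGCone.fgD Λ A).obj j₁).hom := by
    have hft : Algebra.FiniteType Λ j₁.unop.1 := j₁.unop.1.fg_iff_finiteType.1 j₁.unop.2
    change LocallyOfFiniteType (Spec.map (CommRingCat.ofHom (algebraMap Λ j₁.unop.1)))
    rw [HasRingHomProperty.Spec_iff (P := @LocallyOfFiniteType)]
    exact RingHom.finiteType_algebraMap.2 hft
  let g : (FibCat.fp y x).p.obj z ⟶ (FibCat.fp y x).p.obj z₁ := (K729.FGCone.fgC Λ A).π.app j₁ ≫ eqToHom h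
  obtain ⟨m, -⟩ := R.full g (by
    rw [← hxj, ← hz₁, op_comp, Functor.map_comp]
    rfl)
  have h1 : m.hom.snd.left ≫ z₁.obj.snd.hom = j := Over.w m.hom.snd
  have h2 : m.hom.snd.left.left ≫ z₁.obj.snd.hom.left = j.left := congrArg (fun t => t.left) h1
  have h3 : LocallyOfFiniteType m.hom.snd.left.left := by
    have : LocallyOfFiniteType (m.hom.snd.left.left ≫ z₁.obj.snd.hom.left) := by rw [h2]; exact hj
    exact locallyOfFiniteType_of_comp _ z₁.obj.snd.hom.left
  have h4 : m.hom.snd.left.left ≫ z₁.obj.snd.left.hom = (sp Λ A).hom := Over.w m.hom.snd.left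
  have h5 : LocallyOfFiniteType z₁.obj.snd.left.hom := by
    have h6 : z₁.obj.snd.left = (K729.FGCone.fgD Λ A).obj j₁ := (fp_snd_eq z₁).trans h.symm
    have key : ∀ T T' : Over (Spec (CommRingCat.of Λ)), T = T' → LocallyOfFiniteType T'.hom →
        LocallyOfFiniteType T.hom := by
      rintro T _ rfl h
      exact h
    exact key _ _ h6 hD
  rw [← h4]
  infer_instance

/-- Charts locally of finite presentation of a limit preserving category are locally of finite type. -/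
theorem lft_of_chart (h𝒳 : FibCat.IsFibGrpd 𝒳.p) (hLP : K607.Artin.LP 𝒳)
    {U : Over (Spec (CommRingCat.of Λ))} (x : FibCat.overCat U ⥤ᵇ 𝒳)
    (hx : AlgSt.RepByAlgSpWith (LocP @LocallyOfFinitePresentation) x) : LocallyOfFiniteType U.hom := by
  refine (IsZariskiLocalAtSource.iff_of_iSup_eq_top (P := @LocallyOfFiniteType)
    (fun V : U.left.affineOpens => V.1) (by exact iSup_affineOpens_eq_top U.left)).2 ?_
  rintro ⟨V, hV⟩
  let ρ : Spec Γ(U.left, V) ⟶ Spec (CommRingCat.of Λ) := hV.fromSpec ≫ U.hom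
  let _ : Algebra Λ Γ(U.left, V) := (Spec.preimage ρ).hom.toAlgebra
  have hρ : (sp Λ Γ(U.left, V)).hom = ρ := Spec.map_preimage ρ
  let j : sp Λ Γ(U.left, V) ⟶ U := Over.homMk hV.fromSpec hρ.symm
  have hj : LocallyOfFiniteType j.left := inferInstanceAs (LocallyOfFiniteType hV.fromSpec)
  have h1 := lft_aux h𝒳 hLP x hx Γ(U.left, V) j
  rw [hρ] at h1
  have h2 : LocallyOfFiniteType (hV.isoSpec.hom ≫ ρ) := inferInstance
  have h3 : hV.isoSpec.hom ≫ ρ = V.ι ≫ U.hom := by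
    change hV.isoSpec.hom ≫ hV.fromSpec ≫ U.hom = _
    rw [← Category.assoc, hV.isoSpec_hom_fromSpec]
  rwa [h3] at h2

end K161.Higgs
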