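import Groth.Agent.S1026
import Groth.Agent.S0034
import Groth.Agent.VarietyB.PullSec
import Groth.Agent.Ega3B.PullTensor
import Groth.Agent.Fga.PicMon
import Groth.Agent.PerfB.StructFlat
import Groth.Agent.ModSt.K927.RkOpen

/-!
# The locus of fibre degree `d` is open (and closed)

* `euler_fib` : the Euler characteristic of a fibre at a field-valued point.
* `fibDeg_iff` : `ModSt.FibDeg` in terms of `PerfAux.eulerChar`.
* `hasOpenLocus_deg`, `hasOpenLocus_rkDeg`.
-/

set_option autoImplicit false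
universe v u

open CategoryTheory CategoryTheory.Limits AlgebraicGeometry Opposite ModSt

noncomputable section

namespace K161.Higgs

open Groth.Agent

/-- A field-valued point located at `s` factors through `Spec κ(s)`. -/
theorem exists_factor {S : Scheme.{u}} {Ω : Type u} [Field Ω] (σ : Spec (CommRingCat.of Ω) ⟶ S) (s : S)
    (hs : Set.range σ = {s}) :
    ∃ τ : Spec (CommRingCat.of Ω) ⟶ Spec (CommRingCat.of (S.residueField s)),
      τ ≫ S.fromSpecResidueField s = σ := by
  have h := (Scheme.SpecToEquivOfField Ω S).symm_apply_apply σ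
  generalize (Scheme.SpecToEquivOfField Ω S) σ = xf at h
  obtain ⟨x, φ⟩ := xf
  have hx : x = s := by
    have h1 : σ (IsLocalRing.closedPoint Ω) ∈ Set.range σ := ⟨_, rfl⟩
    rw [hs] at h1
    have h2 : σ (IsLocalRing.closedPoint Ω) = x := by
      rw [← h]
      exact S.fromSpecResidueField_apply x _
    exact h2.symm.trans h1
  subst hx
  exact ⟨Spec.map φ, h⟩

theorem euler_iso (k : Type u) [Field k] (X : Scheme.{u}) [X.Over (Spec (CommRingCat.of k))] {M N : X.Modules}
    (e : M ≅ N) : Curv2.euler k X M = Curv2.euler k X N := by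
  unfold Curv2.euler
  refine finsum_congr fun i => ?_
  rw [(Groth.Agent.Fga.PicMon.hmapEquiv k X e i).finrank_eq]

theorem deg_iso (k : Type u) [Field k] (X : Scheme.{u}) [X.Over (Spec (CommRingCat.of k))] {M N : X.Modules}
    (e : M ≅ N) (r : ℕ) : Curv2.deg k X M r = Curv2.deg k X N r := by
  unfold Curv2.deg
  rw [euler_iso k X e]

/-- Euler characteristics are invariant under extensions of the ground field. -/
theorem euler_pull (k : Type u) [Field k] (X : Scheme.{u}) [X.Over (Spec (CommRingCat.of k))]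
    [CompactSpace X] [QuasiSeparatedSpace X]
    (k' : Type u) [Field k'] (X' : Scheme.{u}) [X'.Over (Spec (CommRingCat.of k'))]
    (g : X' ⟶ X) (s : Spec (CommRingCat.of k') ⟶ Spec (CommRingCat.of k))
    (hpb : IsPullback g (X' ↘ Spec (CommRingCat.of k')) (X ↘ Spec (CommRingCat.of k)) s)
    (F : X.Modules) (hF : Coh.IsQCoh F) :
    Curv2.euler k' X' ((Scheme.Modules.pullback g).obj F) = Curv2.euler k X F := by
  obtain ⟨φ, rfl⟩ : ∃ φ, s = Spec.map φ := ⟨_, (Spec.map_preimage s).symm⟩
  let _ : Algebra k k' := φ.hom.toAlgebra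
  unfold Curv2.euler
  refine finsum_congr fun i => ?_
  obtain ⟨e⟩ := Groth.Agent.S0034.result k k' X X' g hpb F i
  rw [← e.finrank_eq, Module.finrank_baseChange]

/-- The Euler characteristic of the fibre at a field-valued point. -/
theorem euler_fib {Y T : Scheme.{u}} (q : Y ⟶ T) [QuasiCompact q] [QuasiSeparated q] {Ω : Type u} [Field Ω]
    (t : Spec (CommRingCat.of Ω) ⟶ T) {Xt : Scheme.{u}} (i : Xt ⟶ Y) (qt : Xt ⟶ Spec (CommRingCat.of Ω))
    (sq : IsPullback i qt q t) (s : T) (hs : Set.range t = {s}) (F : Y.Modules) (hF : Coh.IsQCoh F) :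
    letI : Xt.Over (Spec (CommRingCat.of Ω)) := ⟨qt⟩
    Curv2.euler Ω Xt ((Scheme.Modules.pullback i).obj F) = PerfAux.eulerChar q F s := by
  obtain ⟨τ, hτ⟩ := exists_factor t s hs
  let _ : Xt.Over (Spec (CommRingCat.of Ω)) := ⟨qt⟩
  let _ : (q.fiber s).Over (Spec (CommRingCat.of (T.residueField s))) := ⟨q.fiberToSpecResidueField s⟩
  have h1 : IsPullback (q.fiberι s) (q.fiberToSpecResidueField s) q (T.fromSpecResidueField s) :=
    IsPullback.of_hasPullback _ _
  let g : Xt ⟶ q.fiber s := h1.lift i (qt ≫ τ) (by rw [Category.assoc, hτ]; exact sq.w)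
  have hg1 : g ≫ q.fiberι s = i := h1.lift_fst _ _ _
  have hg2 : g ≫ q.fiberToSpecResidueField s = qt ≫ τ := h1.lift_snd _ _ _
  have hpb : IsPullback g qt (q.fiberToSpecResidueField s) τ := by
    refine IsPullback.of_right (h₁₂ := q.fiberι s) (h₂₂ := T.fromSpecResidueField s) (v₁₃ := q) ?_ hg2 h1
    rw [hg1, hτ]
    exact sq
  have hqc : QuasiCompact (q.fiberToSpecResidueField s) :=
    inferInstanceAs (QuasiCompact (pullback.snd q (T.fromSpecResidueField s)))
  have hqs : QuasiSeparated (q.fiberToSpecResidueField s) :=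
    inferInstanceAs (QuasiSeparated (pullback.snd q (T.fromSpecResidueField s)))
  have : CompactSpace (q.fiber s) := QuasiCompact.compactSpace_of_compactSpace (q.fiberToSpecResidueField s)
  have : QuasiSeparatedSpace (q.fiber s) := quasiSeparatedSpace_of_quasiSeparated (q.fiberToSpecResidueField s)
  let F' := (Scheme.Modules.pullback (q.fiberι s)).obj F
  have hF' : Coh.IsQCoh F' := VarietyB.PullSec.isQCoh_pullback _ F hF
  have e : (Scheme.Modules.pullback i).obj F ≅ (Scheme.Modules.pullback g).obj F' :=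
    (Scheme.Modules.pullbackCongr hg1.symm).app F ≪≫ ((Scheme.Modules.pullbackComp g (q.fiberι s)).app F).symm
  refine (euler_iso Ω Xt e).trans ((euler_pull (T.residueField s) (q.fiber s) Ω Xt g τ hpb F' hF').trans ?_)
  rfl

variable {X S : Scheme.{u}} {f : X ⟶ S}

theorem pr_q [IsProper f] (A : Obj f) : IsProper A.q :=
  MorphismProperty.of_isPullback A.isPullback.flip.flip ‹IsProper f›

theorem lfp_q [LocallyOfFinitePresentation f] (A : Obj f) : LocallyOfFinitePresentation A.q :=
  MorphismProperty.of_isPullback A.isPullback.flip.flip ‹LocallyOfFinitePresentation f›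

theorem flat_q [Flat f] (A : Obj f) : Flat A.q :=
  MorphismProperty.of_isPullback A.isPullback.flip.flip ‹Flat f›

/-- The degree function of an object, at a point of the base. -/
def dg (r : ℕ) (A : Obj f) (s : A.base.left) : ℤ :=
  PerfAux.eulerChar A.q A.E s - r * PerfAux.eulerChar A.q (Coh.structureModule A.XT) s

theorem isQCoh_structure (Y : Scheme.{u}) : Coh.IsQCoh (Coh.structureModule Y) :=
  Groth.Agent.PerfC.FPSections.isQCoh_of_isFP
    (Groth.Agent.Desc.FinLocFreeSections.isFP_of_isFinLocFree Groth.Agent.PerfB.StructFlat.isFinLocFree_structure)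

theorem deg_fib [IsProper f] (r : ℕ) (A : Obj f) (hA : Coh.IsQCoh A.E) {Ω : Type u} [Field Ω]
    (t : Spec (CommRingCat.of Ω) ⟶ A.base.left) {Xt : Scheme.{u}} (i : Xt ⟶ A.XT)
    (qt : Xt ⟶ Spec (CommRingCat.of Ω)) (sq : IsPullback i qt A.q t) (s : A.base.left) (hs : Set.range t = {s}) :
    letI : Xt.Over (Spec (CommRingCat.of Ω)) := ⟨qt⟩
    Curv2.deg Ω Xt ((Scheme.Modules.pullback i).obj A.E) r = dg r A s := by
  let _ : Xt.Over (Spec (CommRingCat.of Ω)) := ⟨qt⟩
  have := pr_q A
  have h1 := euler_fib A.q t i qt sq s hs A.E hA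
  have h2 := euler_fib A.q t i qt sq s hs (Coh.structureModule A.XT) (isQCoh_structure _)
  obtain ⟨e⟩ := Ega3B.PullTensor.nonempty_pullUnitIso i
  have h3 : Curv2.euler Ω Xt (Coh.structureModule Xt) =
      PerfAux.eulerChar A.q (Coh.structureModule A.XT) s :=
    (euler_iso Ω Xt e.symm).trans h2
  unfold Curv2.deg dg
  rw [h3]
  exact congrArg (· - _) h1

theorem range_eq {T : Scheme.{u}} {Ω : Type u} [Field Ω] (t : Spec (CommRingCat.of Ω) ⟶ T) :
    Set.range t = {t (IsLocalRing.closedPoint Ω)} := by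
  ext y
  constructor
  · rintro ⟨x, rfl⟩
    exact congrArg t (Subsingleton.elim _ _)
  · rintro rfl
    exact ⟨_, rfl⟩

/-- Degrees are invariant under base change. -/
theorem dg_hom [IsProper f] (r : ℕ) {A B : Obj f} (φ : B ⟶ A) (hA : Coh.IsQCoh A.E) (s : B.base.left) :
    dg r B s = dg r A (φ.base.left s) := by
  let t := B.base.left.fromSpecResidueField s
  have hr : Set.range t = {s} := Scheme.range_fromSpecResidueField s
  have hB : Coh.IsQCoh B.E := by
    obtain ⟨e⟩ := K927.ModSt.nonempty_iso_pullback φ.cart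
    have h1 : Coh.IsQCoh ((Scheme.Modules.pullback φ.top).obj A.E) := VarietyB.PullSec.isQCoh_pullback _ _ hA
    exact Groth.Agent.Ega2.QCohLocal.isQCoh_of_iso e h1
  have sq := IsPullback.of_hasPullback B.q t
  have h1 := deg_fib r B hB t _ _ sq s hr
  have sq' := sq.paste_horiz (Obj.Hom.isPullback_top φ)
  have hr' : Set.range (t ≫ φ.base.left) = {φ.base.left s} := by
    rw [Scheme.Hom.comp_base, TopCat.coe_comp, Set.range_comp, hr, Set.image_singleton]
  have h2 := deg_fib r A hA (t ≫ φ.base.left) _ _ sq' (φ.base.left s) hr'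
  let _ : (pullback B.q t).Over (Spec (CommRingCat.of (B.base.left.residueField s))) := ⟨pullback.snd B.q t⟩
  obtain ⟨e⟩ := K927.ModSt.nonempty_iso_pullback φ.cart
  have e' : (Scheme.Modules.pullback (pullback.fst B.q t)).obj B.E ≅
      (Scheme.Modules.pullback (pullback.fst B.q t ≫ φ.top)).obj A.E :=
    (Scheme.Modules.pullback (pullback.fst B.q t)).mapIso e.symm ≪≫
      (Scheme.Modules.pullbackComp (pullback.fst B.q t) φ.top).app A.E
  exact h1.symm.trans ((deg_iso (B.base.left.residueField s) (pullback B.q t) e' r).trans h2)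

theorem fibDeg_iff [IsProper f] (r : ℕ) (d : ℤ) (A : Obj f) (hA : Coh.IsQCoh A.E) :
    FibDeg r d A ↔ ∀ s, dg r A s = d := by
  constructor
  · intro h s
    let Ω := AlgebraicClosure (A.base.left.residueField s)
    let t : Spec (CommRingCat.of Ω) ⟶ A.base.left :=
      Spec.map (CommRingCat.ofHom (algebraMap (A.base.left.residueField s) Ω)) ≫ A.base.left.fromSpecResidueField s
    have hr : Set.range t = {s} := by
      rw [range_eq]
      congr 1
      exact A.base.left.fromSpecResidueField_apply s _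
    have sq := IsPullback.of_hasPullback A.q t
    rw [← deg_fib r A hA t _ _ sq s hr]
    exact h Ω t _ _ _ sq
  · intro h Ω _ _ t Xt i qt sq
    exact (deg_fib r A hA t i qt sq _ (range_eq t)).trans (h _)

theorem isLocallyConstant_dg [IsProper f] [LocallyOfFinitePresentation f] [Flat f] (r : ℕ) (A : Obj f)
    (hA : IsCohObj A) : IsLocallyConstant (dg r A) := by
  have h1 := pr_q A
  have h2 := lfp_q A
  have h3 := flat_q A
  have h4 := Groth.Agent.S1026.result A.q A.E hA.2 hA.1
  have h5 := Groth.Agent.S1026.result A.q (Coh.structureModule A.XT)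
    (Groth.Agent.Desc.FinLocFreeSections.isFP_of_isFinLocFree Groth.Agent.PerfB.StructFlat.isFinLocFree_structure)
    (Groth.Agent.PerfB.StructFlat.isFlatOver_structure A.q)
  have h6 := h5.comp (fun z : ℤ => (r : ℤ) * z)
  exact h4.sub h6

/-- The locus of fibre degree `d` is open. -/
theorem hasOpenLocus_deg (f : X ⟶ S) [IsProper f] [LocallyOfFinitePresentation f] [Flat f] (r : ℕ) (d : ℤ) :
    K899.OpenCrit.HasOpenLocus (𝒳 := Coh f) (fun A => FibDeg r d A.obj) := by
  rintro ⟨A, hA⟩
  have hAq := Groth.Agent.PerfC.FPSections.isQCoh_of_isFP hA.2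
  refine ⟨⟨dg r A ⁻¹' {d}, (isLocallyConstant_dg r A hA).isOpen_fiber d⟩, ?_⟩
  rintro ⟨B, hB⟩ φ
  have hBq := Groth.Agent.PerfC.FPSections.isQCoh_of_isFP hB.2
  let φ' : B ⟶ A := φ.hom
  change FibDeg r d B ↔ Set.range φ'.base.left ⊆ dg r A ⁻¹' {d}
  rw [fibDeg_iff r d B hBq, Set.range_subset_iff]
  refine forall_congr' fun s => ?_
  rw [dg_hom r φ' hAq s]
  rfl

theorem HasOpenLocus_and {𝒳 : BasedCategory (Over S)} {Q Q' : 𝒳.obj → Prop} (h : K899.OpenCrit.HasOpenLocus Q)
    (h' : K899.OpenCrit.HasOpenLocus Q') : K899.OpenCrit.HasOpenLocus (fun x => Q x ∧ Q' x) := by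
  intro x
  obtain ⟨U, hU⟩ := h x
  obtain ⟨U', hU'⟩ := h' x
  refine ⟨U ⊓ U', fun y φ => ?_⟩
  change (Q y ∧ Q' y) ↔ _
  rw [hU y φ, hU' y φ]
  exact Set.subset_inter_iff.symm

end K161.Higgs
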