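import Groth.Agent.HiggsSt.K161.Alg
import Groth.Agent.HiggsSt.K161.ChartLft
import Groth.Agent.ModSt.K927.ArtinLP
import Groth.Agent.AlgSt.K734.Boot
import Groth.Agent.AlgSt.K738.Small4
import Groth.Agent.AlgSt.K747.EtAlias
import Groth.Agent.Lift.K696.OmFree
import Groth.Agent.Ega2.TensMon

/-!
# Input of the stack of Higgs bundles over a Noetherian ring

* `isAlgStack_etale_of_fppf`, `lfp_charts_coh`, `isFinLocFree_omega`, `isFlatOver_omega`.
-/

set_option autoImplicit false
universe w v u

open CategoryTheory CategoryTheory.Limits AlgebraicGeometry Opposite ModSt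

namespace K161.Higgs

/-- Algebraic stacks for the fppf topology are algebraic stacks for the étale topology, any universes. -/
theorem isAlgStack_etale_of_fppf {S : Scheme.{u}} {𝒳 : BasedCategory.{v, w} (Over S)}
    (h𝒳 : AlgSt.IsAlgStack Scheme.fppfPrecoverage 𝒳) : AlgSt.IsAlgStack Scheme.etalePrecoverage 𝒳 := by
  obtain ⟨𝒳', e, he, h𝒳'⟩ := K738.Small.exists_model' h𝒳
  exact (K740.Inv.isAlgStack_iff _ he).1 (K747.EtFppf.isAlgStack_etale_iff.2 h𝒳')

theorem lfp_of_lft {X Y : Scheme.{u}} (f : X ⟶ Y) [IsLocallyNoetherian Y] [LocallyOfFiniteType f] :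
    LocallyOfFinitePresentation f where
  finitePresentation_appLE {U} hU {V} hV e := by
    have : IsNoetherianRing Γ(Y, U) := IsLocallyNoetherian.component_noetherian ⟨U, hU⟩
    exact RingHom.FinitePresentation.of_finiteType.1 (f.finiteType_appLE hU hV e)

variable {Λ : Type u} [CommRing Λ] {X : Scheme.{u}} (f : X ⟶ Spec (CommRingCat.of Λ))

/-- Smooth charts of the stack of finitely presented flat modules. -/
theorem lfp_charts_coh [IsNoetherianRing Λ] [IsProper f] [LocallyOfFinitePresentation f]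
    (U : Over (Spec (CommRingCat.of Λ))) (x : FibCat.overCat U ⥤ᵇ Coh f)
    (hx : AlgSt.RepByAlgSpWith (AlgSp.LocP @Smooth) x) : LocallyOfFinitePresentation U.hom := by
  have : LocallyOfFiniteType U.hom :=
    lft_of_chart (K927.ModSt.isFibGrpd_coh f) (K927.ModSt.artin_lp f) x (K734.Rep.lfp_of_smooth hx)
  exact lfp_of_lft U.hom

theorem isFinLocFree_omega {X S : Scheme.{u}} (f : X ⟶ S) [QuasiSeparated f] [Smooth f] :
    FlatMod.IsFinLocFree (Omega.sheaf f) :=
  K696.OmFree.isFinLocFree_omega f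

theorem isFlatOver_of_flf {X Y : Scheme.{u}} (f : X ⟶ Y) [Flat f] {E : X.Modules}
    (hE : FlatMod.IsFinLocFree E) : FlatMod.IsFlatOver f E :=
  Groth.Agent.Models2.FlatIso.isFlatOver_of_iso f (Groth.Agent.Ega2.Tens.lunit E)
    (K527.LocFree.isFlatOver_tensor f hE (Groth.Agent.PerfB.StructFlat.isFlatOver_structure f))

end K161.Higgs
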