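import Groth.Agent.HiggsSt.K161.Alg
import Groth.Agent.ModSt.K599.IsoGlue

/-!
# The scheme of homomorphisms exists; the forgetful functors
-/

set_option autoImplicit false
universe v u

open CategoryTheory CategoryTheory.Limits AlgebraicGeometry Opposite ModSt

namespace K161.Higgs

theorem homEx : HomEx.{u} := by
  intro X U f _ _ E G hE hG hGf
  obtain ⟨R, h1, h2⟩ := K599.IsoGlue.exists_homG (f := f) hE (K599.Good.Gd.of_proper hG hGf)
  exact ⟨⟨R.Z, R.z, R.pt, R.univ⟩, h1, h2⟩

end K161.Higgs
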